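import Groth.Agent.S14272
import Groth.Agent.H18Torsor.Basic
import Groth.Agent.H05EGA4.AffineHull
import Groth.Prelude.Def_ActBC
import Mathlib.RingTheory.Regular.Flat

/-! Morphisms from flat schemes to affine finitely presented schemes extend across codimension two. -/

set_option autoImplicit false
set_option backward.isDefEq.respectTransparency false
set_option linter.style.haveILetI false
universe u

open CategoryTheory MonoidalCategory CartesianMonoidalCategory AlgebraicGeometry Limits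

namespace Groth.Agent.H18CodimTwo

theorem exists_pair_of_flat {X Y : Scheme.{u}} (h : Y ⟶ X) [Flat h] (y : Y)
    (hy : IsRegularLocalRing (X.presheaf.stalk (h y)) ∧ (2 : WithBot ℕ∞) ≤ ringKrullDim (X.presheaf.stalk (h y))) :
    ∃ a b : Y.presheaf.stalk y, a ∈ IsLocalRing.maximalIdeal (Y.presheaf.stalk y) ∧
      b ∈ IsLocalRing.maximalIdeal (Y.presheaf.stalk y) ∧
      RingTheory.Sequence.IsWeaklyRegular (Y.presheaf.stalk y) [a, b] := by
  haveI := hy.1
  obtain ⟨a, b, ha, hb, hab⟩ := H05EGA4.AffineHull.exists_pair hy.2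
  letI := (h.stalkMap y).hom.toAlgebra
  haveI : Module.Flat (X.presheaf.stalk (h y)) (Y.presheaf.stalk y) := Flat.stalkMap h y
  refine ⟨(h.stalkMap y).hom a, (h.stalkMap y).hom b, ?_, ?_, ?_⟩
  · exact map_nonunit (h.stalkMap y).hom a ha
  · exact map_nonunit (h.stalkMap y).hom b hb
  · have := hab.of_flat (S := Y.presheaf.stalk y)
    exact this

variable {X : Scheme.{u}} (U : X.Opens)

theorem existsUnique_hom [QuasiCompact U.ι]
    (hZ : ∀ z : X, z ∉ U → IsRegularLocalRing (X.presheaf.stalk z) ∧ (2 : WithBot ℕ∞) ≤ ringKrullDim (X.presheaf.stalk z))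
    {Z Q : Over X} [Flat Z.hom] [IsAffineHom Q.hom] [LocallyOfFinitePresentation Q.hom]
    (h' : (Over.pullback U.ι).obj Z ⟶ (Over.pullback U.ι).obj Q) :
    ∃! h : Z ⟶ Q, (Over.pullback U.ι).map h = h' := by
  let U' : Z.left.Opens := Z.hom ⁻¹ᵁ U
  haveI : QuasiCompact U'.ι := MorphismProperty.of_isPullback (P := @QuasiCompact)
    (isPullback_morphismRestrict Z.hom U) inferInstance
  let m : U'.toScheme ⟶ pullback Z.hom U.ι :=
    pullback.lift U'.ι (Z.hom ∣_ U) (morphismRestrict_ι _ _).symm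
  have hm : IsIso m := by
    have : m = (isPullback_morphismRestrict Z.hom U).flip.isoPullback.hom := by
      apply pullback.hom_ext <;> simp [m, U']
    rw [this]; infer_instance
  let π := pullback.fst Z.hom Q.hom
  haveI : IsAffineHom π := MorphismProperty.pullback_fst _ _ inferInstance
  haveI : LocallyOfFinitePresentation π := MorphismProperty.pullback_fst _ _ inferInstance
  let t : U'.toScheme ⟶ pullback Z.hom Q.hom :=
    pullback.lift U'.ι (m ≫ h'.left ≫ pullback.fst Q.hom U.ι) (by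
      have he : h'.left ≫ pullback.snd Q.hom U.ι = pullback.snd Z.hom U.ι := Over.w h'
      rw [Category.assoc, Category.assoc, pullback.condition, reassoc_of% he]
      simp [m, U'])
  obtain ⟨s, ⟨hs₁, hs₂⟩, huniq⟩ := Groth.Agent.S14272.result Z.left U'
    (fun z hz => exists_pair_of_flat Z.hom z (hZ _ hz)) _ π t (pullback.lift_fst _ _ _)
  have key : ∀ h : Z ⟶ Q, (Over.pullback U.ι).map h = h' ↔
      U'.ι ≫ h.left = m ≫ h'.left ≫ pullback.fst Q.hom U.ι := by
    intro h
    constructor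
    · rintro rfl
      simp [m]
    · intro e
      refine Over.OverMorphism.ext (pullback.hom_ext ?_ ((Over.w ((Over.pullback U.ι).map h)).trans (Over.w h').symm))
      rw [← cancel_epi m]
      simpa [m] using e
  refine ⟨Over.homMk (s ≫ pullback.snd Z.hom Q.hom) (by
    rw [Category.assoc, ← pullback.condition, reassoc_of% hs₁]), ?_, ?_⟩
  · refine (key _).2 ?_
    show U'.ι ≫ s ≫ _ = _
    rw [reassoc_of% hs₂, pullback.lift_snd]
  · intro h hh
    have h1 := (key h).1 hh
    have h2 : pullback.lift (𝟙 _) h.left (by rw [Category.id_comp, Over.w h]) = s :=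
      huniq _ ⟨pullback.lift_fst _ _ _, by
        apply pullback.hom_ext
        · simp [t]
        · simpa [t] using h1⟩
    apply Over.OverMorphism.ext
    show h.left = s ≫ _
    rw [← h2, pullback.lift_snd]

theorem hom_torsor [QuasiCompact U.ι]
    (hZ : ∀ z : X, z ∉ U → IsRegularLocalRing (X.presheaf.stalk z) ∧ (2 : WithBot ℕ∞) ≤ ringKrullDim (X.presheaf.stalk z))
    (G : Over X) [GrpObj G] [IsFinite G.hom] [Flat G.hom] [LocallyOfFinitePresentation G.hom]
    {Q₁ Q₂ : Over X} (a₁ : AlgGrp.Action G Q₁) (a₂ : AlgGrp.Action G Q₂)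
    (h₁ : NonAbH1.IsTorsorFor Scheme.fppfPrecoverage a₁) (h₂ : NonAbH1.IsTorsorFor Scheme.fppfPrecoverage a₂)
    (h' : (Over.pullback U.ι).obj Q₁ ⟶ (Over.pullback U.ι).obj Q₂)
    (hh' : (Functor.LaxMonoidal.μ (Over.pullback U.ι) G Q₁ ≫ (Over.pullback U.ι).map a₁.act) ≫ h' =
      ((Over.pullback U.ι).obj G ◁ h') ≫ (Functor.LaxMonoidal.μ (Over.pullback U.ι) G Q₂ ≫ (Over.pullback U.ι).map a₂.act)) :
    ∃! h : Q₁ ⟶ Q₂, a₁.act ≫ h = (G ◁ h) ≫ a₂.act ∧ (Over.pullback U.ι).map h = h' := by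
  have hfp : ∀ {R : Over X} {a : AlgGrp.Action G R}, NonAbH1.IsTorsorFor Scheme.fppfPrecoverage a →
      NonAbH1.IsTorsorFor Scheme.fpqcPrecoverage a := fun h =>
    ⟨h.1, h.2.choose, Scheme.fppfPrecoverage_le_fpqcPrecoverage _ h.2.choose_spec.1, h.2.choose_spec.2⟩
  haveI : IsFinite Q₂.hom := H18Torsor.property_of_isTorsorFor a₂ @IsFinite (hfp h₂) inferInstance
  haveI : LocallyOfFinitePresentation Q₂.hom :=
    H18Torsor.property_of_isTorsorFor a₂ @LocallyOfFinitePresentation (hfp h₂) inferInstance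
  haveI : Flat Q₁.hom := H18Torsor.property_of_isTorsorFor a₁ @Flat (hfp h₁) inferInstance
  obtain ⟨h, hh, huniq⟩ := existsUnique_hom U hZ h'
  haveI : Flat (G ⊗ Q₁).hom := inferInstanceAs (Flat (pullback.fst G.hom Q₁.hom ≫ G.hom))
  refine ⟨h, ⟨?_, hh⟩, fun h₂' hh₂ => huniq _ hh₂.2⟩
  obtain ⟨k, -, hk⟩ := existsUnique_hom U hZ ((Over.pullback U.ι).map ((G ◁ h) ≫ a₂.act))
  refine (hk (a₁.act ≫ h) ?_).trans (hk ((G ◁ h) ≫ a₂.act) rfl).symm
  show (Over.pullback U.ι).map (a₁.act ≫ h) = _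
  rw [← cancel_epi (Functor.LaxMonoidal.μ (Over.pullback U.ι) G Q₁), Functor.map_comp, Functor.map_comp,
    ← Functor.LaxMonoidal.μ_natural_right_assoc, hh, ← hh', Category.assoc]

end Groth.Agent.H18CodimTwo
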